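import Cfsg.Agent.H246.UThreeThree
import Cfsg.Agent.OddHalf.Small.U33
import Cfsg.Agent.H215.L2Out.Filt

/-! The case of `U₃(3)`. -/

set_option autoImplicit false

namespace Cfsg.Agent.H215.L2Out.UThree

open Cfsg Matrix Cfsg.Agent.OddHalf.Small.U33
open Cfsg.Agent.Classification.RTwo.UThreeThree (K9 card_k9 psuEquiv IsGood)
open Cfsg.Agent.ClassicalGeometry.PSUAutBasic (pr pr_surjective)
open Cfsg.Agent.LieClassical.GUOrder
open Cfsg.Agent.H215.L2Out.Filt

/-- In a group of characteristic 2 type `O_2(H)` is self-centralising, if `H` contains a Sylow 2-subgroup. -/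
theorem cent_le_of_charTwo {X : Type*} [Group X] [Finite X] (h : IsCharacteristicTwoType X) {S : Sylow 2 X}
    {H D : Subgroup X} (hD : Core (S : Subgroup X) H D) (hD1 : D ≠ ⊥) : Subgroup.centralizer (D : Set X) ≤ D := by
  have hN := h.2 D hD.two hD1
  have hHN : H ≤ Subgroup.normalizer (D : Set X) := le_normalizer_of hD.nml
  obtain ⟨N, hNdef⟩ : ∃ N, N = Subgroup.normalizer (D : Set X) := ⟨_, rfl⟩
  rw [← hNdef] at hN hHN
  have hpn : (pCore 2 ↥N).Normal := Lib.Cores.pCore_normal 2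
  have hE2 : IsPGroup 2 ((pCore 2 ↥N).map N.subtype) := (Lib.Cores.pCore_isPGroup 2).map _
  have hEN : ∀ g ∈ N, ∀ e ∈ (pCore 2 ↥N).map N.subtype, g * e * g⁻¹ ∈ (pCore 2 ↥N).map N.subtype := by
    rintro g hg e ⟨e, he, rfl⟩
    exact ⟨⟨g, hg⟩ * e * ⟨g, hg⟩⁻¹, hpn.conj_mem e he ⟨g, hg⟩, rfl⟩
  have hES : (pCore 2 ↥N).map N.subtype ≤ S :=
    le_sylow_of hE2 (le_trans (le_trans hD.syl hHN) (le_normalizer_of hEN))
  have hED := hD.max _ (le_trans hES hD.syl) hE2 (fun g hg => hEN g (hHN hg))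
  intro y hy
  have hyN : y ∈ N := by rw [hNdef]; exact Subgroup.centralizer_le_normalizer _ hy
  have h1 : (⟨y, hyN⟩ : ↥N) ∈ pCore 2 ↥N := by
    apply hN
    rw [Subgroup.mem_centralizer_iff]
    rintro e he
    apply Subtype.ext
    exact Subgroup.mem_centralizer_iff.1 hy _ (hED ⟨e, he, rfl⟩)
  exact hED ⟨_, h1, rfl⟩

theorem pr_inj {x y : SU33} (h : pr 3 K9 3 x = pr 3 K9 3 y) : x = y :=
  congrArg (psuEquiv card_k9) h

def ii : K9 := ⟨0, 1⟩

theorem ii_mul : ii * ii = -1 := by decide +kernel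

/-- the matrix `diag(-1, i, i)` -/
def tauM : Matrix (Fin 3) (Fin 3) K9 := !![-1, 0, 0; 0, ⟨0, 1⟩, 0; 0, 0, ⟨0, 1⟩]

theorem isGood_tauM : IsGood tauM := by decide +kernel

def tau : SU33 := isGood_tauM.su

theorem mt_tau : mt tau = tauM := rfl

/-- the matrix of the cyclic permutation -/
def permM : Matrix (Fin 3) (Fin 3) K9 := !![0, 0, 1; 1, 0, 0; 0, 1, 0]

theorem isGood_permM : IsGood permM := by decide +kernel

def perm : SU33 := isGood_permM.su

theorem tau_pow : tau ^ 4 = 1 := by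
  apply mt_ext
  have h1 : tau ^ 4 = tau * tau * (tau * tau) := by rw [show 4 = 2 + 2 by norm_num, pow_add, pow_two]
  rw [h1, mt_mul, mt_mul, mt_tau, mt_one]
  decide +kernel

theorem comm_tau {x : SU33} (h : x * t0 = t0 * x) : x * tau = tau * x := by
  obtain ⟨h01, h02, h10, h20⟩ := pattern h
  apply mt_ext
  rw [mt_mul, mt_mul, mt_tau]
  refine Matrix.ext fun i j => ?_
  simp only [Matrix.mul_apply, Fin.sum_univ_three]
  fin_cases i <;> fin_cases j <;> simp [tauM, h01, h02, h10, h20, mul_comm]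

theorem exists_t0 {T : SU33} (hT : T * T = 1) (h1 : T ≠ 1) : ∃ g : SU33, g⁻¹ * T * g = t0 := by
  obtain ⟨v, hv, hTv⟩ := exists_fixed hT h1
  obtain ⟨g, hg⟩ := exists_su hv
  have hgi : mt g⁻¹ * mt g = 1 := by rw [← mt_mul, inv_mul_cancel, mt_one]
  refine ⟨g, ?_⟩
  apply eq_t0
  · calc g⁻¹ * T * g * (g⁻¹ * T * g) = g⁻¹ * (T * T) * g := by group
      _ = 1 := by rw [hT]; group
  · intro h
    apply h1
    calc T = g * (g⁻¹ * T * g) * g⁻¹ := by group
      _ = 1 := by rw [h]; group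
  · rw [mt_mul, mt_mul, ← Matrix.mulVec_mulVec, ← Matrix.mulVec_mulVec, hg, hTv, ← hg,
      Matrix.mulVec_mulVec, hgi, Matrix.one_mulVec]

theorem perm_conj : perm * H246.UThreeThree.dg ii_mul * perm⁻¹ = tau := by
  have h1 : perm * H246.UThreeThree.dg ii_mul = tau * perm := by
    apply mt_ext
    rw [mt_mul, mt_mul]
    show permM * Matrix.diagonal ![ii, ii, -1] = tauM * permM
    decide +kernel
  rw [h1, mul_inv_cancel_right]

theorem conj_perm (g : SU33) : g * perm * H246.UThreeThree.dg ii_mul * (g * perm)⁻¹ = g * tau * g⁻¹ := by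
  rw [← perm_conj]
  generalize H246.UThreeThree.dg ii_mul = d
  generalize perm = p
  group

theorem inner_of_fix_equiv {X : Type*} [Group X] (e : X ≃* PSU 3 K9 3) (α : MulAut X) (x : PSU 3 K9 3)
    (hx : α (e.symm (x * pr 3 K9 3 (H246.UThreeThree.dg ii_mul) * x⁻¹)) =
      e.symm (x * pr 3 K9 3 (H246.UThreeThree.dg ii_mul) * x⁻¹)) : ∃ z, α = MulAut.conj z := by
  have h9 : Fintype.card K9 = 3 ^ 2 := card_k9.trans (by norm_num)
  obtain ⟨y, hy⟩ := H246.UThreeThree.inner_of_fix h9 ii_mul (MulAut.congr e α) x (by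
    have h1 : (MulAut.congr e α) (x * pr 3 K9 3 (H246.UThreeThree.dg ii_mul) * x⁻¹) =
      e (α (e.symm (x * pr 3 K9 3 (H246.UThreeThree.dg ii_mul) * x⁻¹))) := rfl
    rw [h1, hx, MulEquiv.apply_symm_apply])
  refine ⟨e.symm y, ?_⟩
  ext x
  have h4 : e (α (e.symm (e x))) = y * e x * y⁻¹ := congrArg (fun φ : MulAut (PSU 3 K9 3) => φ (e x)) hy
  rw [MulEquiv.symm_apply_apply] at h4
  apply e.injective
  rw [h4, MulAut.conj_apply, map_mul, map_mul, map_inv, MulEquiv.apply_symm_apply]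

theorem inner_of_core {X : Type*} [Group X] [Finite X] (e : X ≃* PSU 3 K9 3)
    {α : MulAut X} {S : Sylow 2 X} {H D : Subgroup X} (hD : Core (S : Subgroup X) H D) (hD1 : D ≠ ⊥)
    (hα : ∀ d ∈ D, α d = d) : ∃ z, α = MulAut.conj z := by
  have hfact : Fact (Nat.Prime 2) := ⟨Nat.prime_two⟩
  have hch : IsCharacteristicTwoType X := charTwo (Fintype.card_eq.2 ⟨Equiv.refl _⟩ |>.trans card_k9) e
  have hDS : D ≤ S := le_sylow_of hD.two (le_trans hD.syl (le_normalizer_of hD.nml))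
  have hCD := cent_le_of_charTwo hch hD hD1
  -- an involution in the centre of `S`
  have hS1 : Nontrivial ↥(S : Subgroup X) := by
    rw [Subgroup.nontrivial_iff_ne_bot]
    intro h1
    apply hD1
    rw [eq_bot_iff, ← h1]
    exact hDS
  have hZ := S.2.center_nontrivial
  obtain ⟨z, hz2⟩ := exists_prime_orderOf_dvd_card' (G := Subgroup.center ↥(S : Subgroup X)) 2 (by
    have h1 : IsPGroup 2 (Subgroup.center ↥(S : Subgroup X)) := S.2.to_subgroup _
    obtain ⟨k, hk⟩ := (IsPGroup.iff_card).1 h1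
    have h2 : 1 < Nat.card (Subgroup.center ↥(S : Subgroup X)) := Finite.one_lt_card
    rw [hk] at h2 ⊢
    refine dvd_pow_self 2 ?_
    rintro rfl
    simp at h2)
  obtain ⟨T, hT⟩ := pr_surjective (e (z : ↥(S : Subgroup X)))
  have hzz : ((z : ↥(S : Subgroup X)) : X) * ((z : ↥(S : Subgroup X)) : X) = 1 := by
    have h1 : z * z = 1 := by
      have h0 := pow_orderOf_eq_one z
      rwa [hz2, pow_two] at h0
    have h2 := congrArg (fun w : Subgroup.center ↥(S : Subgroup X) => ((w : ↥(S : Subgroup X)) : X)) h1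
    exact h2
  have hz1 : ((z : ↥(S : Subgroup X)) : X) ≠ 1 := by
    intro h1
    have h2 : z = 1 := by
      apply Subtype.ext
      apply Subtype.ext
      exact h1
    rw [h2, orderOf_one] at hz2
    omega
  have hTT : T * T = 1 := by
    apply pr_inj
    rw [map_mul, hT, map_one, ← map_mul, hzz, map_one]
  have hT1 : T ≠ 1 := by
    rintro rfl
    apply hz1
    apply e.injective
    rw [← hT, map_one, map_one]
  obtain ⟨g, hg⟩ := exists_t0 hTT hT1
  -- the element of order four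
  obtain ⟨t, ht⟩ : ∃ t, t = e.symm (pr 3 K9 3 (g * tau * g⁻¹)) := ⟨_, rfl⟩
  have hts : ∀ s ∈ (S : Subgroup X), s * t = t * s := by
    intro s hs
    obtain ⟨s', hs'⟩ := pr_surjective (e s)
    have h1 : s' * T = T * s' := by
      apply pr_inj
      rw [map_mul, map_mul, hs', hT, ← map_mul, ← map_mul]
      congr 1
      have h2 := Subgroup.mem_center_iff.1 z.2 ⟨s, hs⟩
      exact congrArg Subtype.val h2
    have h2 : g⁻¹ * s' * g * t0 = t0 * (g⁻¹ * s' * g) := by
      rw [← hg]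
      calc g⁻¹ * s' * g * (g⁻¹ * T * g) = g⁻¹ * (s' * T) * g := by group
        _ = g⁻¹ * (T * s') * g := by rw [h1]
        _ = _ := by group
    have h3 := comm_tau h2
    have h4 : s' * (g * tau * g⁻¹) = g * tau * g⁻¹ * s' := by
      calc s' * (g * tau * g⁻¹) = g * (g⁻¹ * s' * g * tau) * g⁻¹ := by group
        _ = g * (tau * (g⁻¹ * s' * g)) * g⁻¹ := by rw [h3]
        _ = _ := by group
    apply e.injective
    rw [map_mul, map_mul, ht, MulEquiv.apply_symm_apply, ← hs', ← map_mul, ← map_mul, h4]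
  have ht4 : t ^ 4 = 1 := by
    rw [ht, ← map_pow, ← map_pow]
    have h1 : (g * tau * g⁻¹) ^ 4 = 1 := by
      rw [conj_pow, tau_pow]; group
    rw [h1, map_one, map_one]
  have htD : t ∈ D := by
    apply hCD
    rw [Subgroup.mem_centralizer_iff]
    intro d hd
    exact hts d (hDS hd)
  have h2 := hα _ htD
  have hpt : pr 3 K9 3 (g * perm) * pr 3 K9 3 (H246.UThreeThree.dg ii_mul) * (pr 3 K9 3 (g * perm))⁻¹ =
      pr 3 K9 3 (g * tau * g⁻¹) := by
    rw [← map_inv, ← map_mul, ← map_mul, conj_perm]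
  refine inner_of_fix_equiv e α (pr 3 K9 3 (g * perm)) ?_
  rw [hpt, ← ht, h2]

/-- **The case of `U₃(3)`.** -/
theorem inner_iso {X : Type*} [Group X] [Finite X] {F : Type*} [Field F] [Fintype F] (h9 : Fintype.card F = 9)
    (e : X ≃* PSU 3 F 3) {α : MulAut X} {S : Sylow 2 X} {H D : Subgroup X} (hD : Core (S : Subgroup X) H D)
    (hD1 : D ≠ ⊥) (hα : ∀ d ∈ D, α d = d) : ∃ z, α = MulAut.conj z := by
  have hcard : Fintype.card F = Fintype.card K9 := by rw [h9, card_k9]
  obtain ⟨ε⟩ : Nonempty (F ≃+* K9) := ⟨FiniteField.ringEquivOfCardEq hcard⟩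
  exact inner_of_core (e.trans (LieClassical.FieldTransfer.psuCongr 3 3 ε)) hD hD1 hα

end Cfsg.Agent.H215.L2Out.UThree
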